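import Groth.Prelude.Def_CAlgX
import Mathlib.RingTheory.LocalRing.Module
import Mathlib.RingTheory.Flat.Basic
import Mathlib.LinearAlgebra.TensorProduct.RightExactness
import Mathlib.Algebra.Module.Projective

/-! Flat modules and universally exact short exact sequences. -/

set_option autoImplicit false
universe u

namespace Groth.Agent.FlatSES

open TensorProduct

variable {R : Type u} [CommRing R] {A B C : Type u} [AddCommGroup A] [Module R A] [AddCommGroup B] [Module R B]
  [AddCommGroup C] [Module R C] {f : A →ₗ[R] B} {g : B →ₗ[R] C}

theorem univInj_of_flat (hf : Function.Injective f) (hfg : Function.Exact f g) (hg : Function.Surjective g)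
    [Module.Flat R C] : CAlgX.UniversallyInjective R f := by
  intro Q _ _
  let q : (Q →₀ R) →ₗ[R] Q := Finsupp.linearCombination R id
  have hq : Function.Surjective q := fun x => ⟨Finsupp.single x 1, by simp [q]⟩
  have h : Function.Injective (f.lTensor Q) :=
    lTensor_injective_of_exact_of_exact_of_rTensor_injective (LinearMap.exact_subtype_ker_map q) hq hfg hg
      (Module.Flat.rTensor_preserves_injective_linearMap _ (Submodule.injective_subtype _))
      (Module.Flat.lTensor_preserves_injective_linearMap _ hf)
  rw [← LinearMap.comm_comp_lTensor_comp_comm_eq]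
  exact (TensorProduct.comm R _ _).injective.comp (h.comp (TensorProduct.comm R _ _).injective)

theorem flat_right (hfg : Function.Exact f g) (hg : Function.Surjective g) (hu : CAlgX.UniversallyInjective R f)
    [Module.Flat R B] : Module.Flat R C := by
  refine Module.Flat.iff_lTensor_preserves_injective_linearMap.2 fun N N' _ _ _ _ φ hφ => ?_
  exact lTensor_injective_of_exact_of_exact_of_rTensor_injective hfg hg (LinearMap.exact_map_mkQ_range φ)
    (LinearMap.range φ).mkQ_surjective (hu _) (Module.Flat.lTensor_preserves_injective_linearMap φ hφ)

theorem flat_left (hu : CAlgX.UniversallyInjective R f) [Module.Flat R B] : Module.Flat R A := by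
  refine Module.Flat.iff_lTensor_preserves_injective_linearMap.2 fun N N' _ _ _ _ φ hφ => ?_
  have h : Function.Injective ((φ.lTensor B).comp (f.rTensor N)) :=
    (Module.Flat.lTensor_preserves_injective_linearMap φ hφ).comp (hu N)
  rw [LinearMap.lTensor_comp_rTensor, ← LinearMap.rTensor_comp_lTensor] at h
  exact Function.Injective.of_comp (f := f.rTensor N') h

theorem flat_middle (hf : Function.Injective f) (hfg : Function.Exact f g) (hg : Function.Surjective g)
    [Module.Flat R A] [Module.Flat R C] : Module.Flat R B := by
  refine Module.Flat.iff_lTensor_preserves_injective_linearMap.2 fun N N' _ _ _ _ φ hφ => ?_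
  refine (injective_iff_map_eq_zero _).2 fun x hx => ?_
  have h1 : g.rTensor N x = 0 := by
    apply Module.Flat.lTensor_preserves_injective_linearMap (M := C) φ hφ
    rw [map_zero, ← LinearMap.comp_apply, LinearMap.lTensor_comp_rTensor, ← LinearMap.rTensor_comp_lTensor,
      LinearMap.comp_apply, hx, map_zero]
  obtain ⟨y, rfl⟩ := (rTensor_exact N hfg hg x).1 h1
  have h2 : φ.lTensor A y = 0 := by
    apply univInj_of_flat hf hfg hg N'
    rw [map_zero, ← LinearMap.comp_apply, LinearMap.rTensor_comp_lTensor, ← LinearMap.lTensor_comp_rTensor,
      LinearMap.comp_apply, hx]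
  rw [Module.Flat.lTensor_preserves_injective_linearMap (M := A) φ hφ (h2.trans (map_zero _).symm), map_zero]

end Groth.Agent.FlatSES
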